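import Groth.Agent.Pi1.K156.VdimThree
import Groth.Agent.S2842
import Groth.Agent.S0548
import Groth.Agent.Ega4B.CplFinite
import Groth.Agent.Ega4A.CatenaryDim
import Groth.Agent.Ega4late.H544.DimQuot

/-!
# Purity for the local rings of a quotient of a regular local ring by few equations

`A = R/(s)`, `R` regular local, `A` a catenary domain, `c = dim R - dim A`, such that the ideal `(s)` is generated by a
regular sequence at the primes of `A` of height at most `2 + |s| - c`. Then purity holds for `A_Q`, `height Q ≥ 3`.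
-/

set_option autoImplicit false
universe u

open IsLocalRing

namespace K64.CIPur

section loc

variable {S T : Type*} [CommRing S] [CommRing T] (f : S →+* T) (hf : Function.Surjective f) (r : Ideal T) [r.IsPrime]
  (r' : Ideal S) [r'.IsPrime] (hr : r' = r.comap f)

include hf in
theorem localRingHom_surjective : Function.Surjective (Localization.localRingHom r' r f hr) := by
  intro y
  obtain ⟨b, s, rfl⟩ := IsLocalization.exists_mk'_eq r.primeCompl y
  obtain ⟨a, rfl⟩ := hf b
  obtain ⟨s, hs⟩ := s
  obtain ⟨t, rfl⟩ := hf s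
  have ht : t ∈ r'.primeCompl := fun h => hs (hr.le h)
  exact ⟨IsLocalization.mk' _ a ⟨t, ht⟩, by rw [Localization.localRingHom_mk']⟩

include hf in
theorem ker_localRingHom : RingHom.ker (Localization.localRingHom r' r f hr) =
    (RingHom.ker f).map (algebraMap S (Localization.AtPrime r')) := by
  refine IsLocalization.ker_map _ _ ?_
  ext y
  constructor
  · rintro ⟨x, hx, rfl⟩
    exact fun h => hx (hr.ge h)
  · intro hy
    obtain ⟨x, rfl⟩ := hf y
    exact ⟨x, fun h => hy (hr.le h), rfl⟩

end loc

/-- Purity in virtual dimension at least three. -/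
theorem purityHolds_of_vdim (S : Type u) [CommRing S] [IsRegularLocalRing S] (d : ℕ) (hd : ringKrullDim S = d)
    (k : ℕ) (g : Fin k → S) (hg : ∀ j, g j ∈ maximalIdeal S) (hk : k + 3 ≤ d) (B : Type u) [CommRing B] [IsLocalRing B]
    (ψ : S →+* B) (hψ : Function.Surjective ψ) (hker : RingHom.ker ψ = Ideal.span (Set.range g)) :
    FEt.PurityHolds B := by
  obtain ⟨q, hq⟩ : ∃ q : Ideal S, q = Ideal.span (Set.range g) := ⟨_, rfl⟩
  have e : (S ⧸ q) ≃+* B := (Ideal.quotEquivOfEq (hq.trans hker.symm)).trans (RingHom.quotientKerEquivOfSurjective hψ)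
  have hloc : IsLocalRing (S ⧸ q) := e.symm.isLocalRing
  have h : FEt.PurityHolds (S ⧸ q) := by
    apply Groth.Agent.S0272.purity_of_completion
    have hreg : IsRegularLocalRing (AdicCompletion (maximalIdeal S) S) := (Groth.Agent.S0548.result S).1 inferInstance
    have hdim : ringKrullDim (AdicCompletion (maximalIdeal S) S) = d := (Groth.Agent.S0547.result S).trans hd
    have e' := Groth.Agent.Ega4B.CplFinite.equivQuotientMap S q
    refine K156.VdimThree.purityHolds_of_vdim (AdicCompletion (maximalIdeal S) S) d hdim k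
      (fun j => algebraMap S _ (g j)) (fun j => ?_) hk _ (e'.symm.toRingHom.comp (Ideal.Quotient.mk _)) ?_ ?_
    · rw [mem_maximalIdeal, mem_nonunits_iff]
      exact fun h => (mem_maximalIdeal _).1 (hg j) (isUnit_of_map_unit (algebraMap S _) _ h)
    · exact e'.symm.surjective.comp Ideal.Quotient.mk_surjective
    · have h0 : RingHom.ker (e'.symm.toRingHom.comp (Ideal.Quotient.mk (q.map (algebraMap S
          (AdicCompletion (maximalIdeal S) S))))) = q.map (algebraMap S (AdicCompletion (maximalIdeal S) S)) := by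
        ext x
        rw [RingHom.mem_ker, RingHom.comp_apply]
        exact (map_eq_zero_iff _ e'.symm.injective).trans Ideal.Quotient.eq_zero_iff_mem
      rw [h0, hq, Ideal.map_span, ← Set.range_comp]
      rfl
  exact Groth.Agent.Pi1B.PuncturedIso.purityHolds_of_ringEquiv _ _ e h

/-- Purity for quotients of regular local rings by regular sequences or by few elements. -/
theorem purityHolds_quot (S : Type u) [CommRing S] [IsRegularLocalRing S] (d : ℕ) (hd : ringKrullDim S = d)
    (s : Finset S) (B : Type u) [CommRing B] [IsLocalRing B] (ψ : S →+* B) (hψ : Function.Surjective ψ)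
    (hker : RingHom.ker ψ = Ideal.span (s : Set S)) (h3 : (3 : WithBot ℕ∞) ≤ ringKrullDim B)
    (h : d ≤ 2 + s.card → CInt.IsRegularIdeal (Ideal.span (s : Set S))) : FEt.PurityHolds B := by
  have hN : IsNoetherianRing B := isNoetherianRing_of_surjective S B ψ hψ
  rcases Nat.lt_or_ge d (s.card + 3) with h1 | h1
  · refine Groth.Agent.S0272.result B ?_ h3
    rw [Groth.Agent.S2842.isCompleteIntersection_iff_of_surjective ψ hψ, hker]
    exact h (by omega)
  · obtain ⟨g, hg⟩ := K156.VdimTwo.exists_fin_range s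
    have hm : ∀ j, g j ∈ maximalIdeal S := by
      intro j
      have h2 : g j ∈ RingHom.ker ψ := by
        rw [hker, ← hg]
        exact Ideal.subset_span ⟨j, rfl⟩
      exact le_maximalIdeal (RingHom.ker_ne_top ψ) h2
    exact purityHolds_of_vdim S d hd s.card g hm h1 B ψ hψ (by rw [hker, hg])

/-- `ht (Q ∩ R) = ht Q + c` for a catenary local domain `R/I` of codimension `c`. -/
theorem height_comap {R A : Type u} [CommRing R] [IsRegularLocalRing R] [CommRing A] [IsLocalRing A] [IsDomain A]
    [IsNoetherianRing A] (ψ : R →+* A) (hψ : Function.Surjective ψ) (hcat : CAlg.IsCatenary A) (c : ℕ)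
    (hc : ringKrullDim R = ringKrullDim A + (c : WithBot ℕ∞)) (Q : Ideal A) [Q.IsPrime] :
    (Q.comap ψ).height = Q.height + c := by
  have hreg : IsRegularRing R := Groth.Agent.Ega4late.H544.Dim.isRegularRing_of_isRegularLocalRing R
  have h1 := Groth.Agent.Ega4late.H544.DimQuot.height_comap_add_dim ψ hψ Q
  have h2 := Groth.Agent.Ega4A.CatenaryDim.height_add_ringKrullDim_quotient_of_isDomain hcat Q
  have h3 : (maximalIdeal A).comap ψ = maximalIdeal R := by
    have hm : ((maximalIdeal A).comap ψ).IsMaximal := Ideal.comap_isMaximal_of_surjective ψ hψ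
    exact IsLocalRing.eq_maximalIdeal hm
  rw [h3, IsLocalRing.maximalIdeal_height_eq_ringKrullDim, hc, ← h2] at h1
  have h4 : FiniteRingKrullDim (A ⧸ Q) := inferInstance
  obtain ⟨n, hn⟩ : ∃ n : ℕ, ringKrullDim (A ⧸ Q) = n := by
    obtain ⟨x, hx⟩ := WithBot.ne_bot_iff_exists.1 (ringKrullDim_ne_bot (R := A ⧸ Q))
    have hxt : x ≠ ⊤ := by
      rintro rfl
      exact ringKrullDim_ne_top (R := A ⧸ Q) hx.symm
    obtain ⟨n, hn⟩ := ENat.ne_top_iff_exists.1 hxt
    exact ⟨n, by rw [← hx, ← hn]; rfl⟩
  rw [hn] at h1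
  have h5 : ((Q.comap ψ).height + (n : ℕ∞)) = (Q.height + c) + n := by
    have : (((Q.comap ψ).height + (n : ℕ∞) : ℕ∞) : WithBot ℕ∞) = (((Q.height + c) + n : ℕ∞) : WithBot ℕ∞) := by
      push_cast
      rw [h1]
      push_cast
      ring
    exact WithBot.coe_injective this
  exact ENat.add_left_injective_of_ne_top (ENat.natCast_ne_top n) h5

theorem purityHolds_atPrime (R : Type u) [CommRing R] [IsRegularLocalRing R] (s : Finset R)
    [IsDomain (R ⧸ Ideal.span (s : Set R))] (hcat : CAlg.IsCatenary (R ⧸ Ideal.span (s : Set R))) (c : ℕ)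
    (hc : ringKrullDim R = ringKrullDim (R ⧸ Ideal.span (s : Set R)) + (c : WithBot ℕ∞))
    (hci : ∀ (Q : Ideal (R ⧸ Ideal.span (s : Set R))) [Q.IsPrime], Q.height + (c : ℕ∞) ≤ ((2 + s.card : ℕ) : ℕ∞) →
      CInt.IsRegularIdeal ((Ideal.span (s : Set R)).map (algebraMap R (Localization.AtPrime
        (Q.comap (Ideal.Quotient.mk (Ideal.span (s : Set R))))))))
    (Q : Ideal (R ⧸ Ideal.span (s : Set R))) [Q.IsPrime] (hQ : (3 : ℕ∞) ≤ Q.height) :
    FEt.PurityHolds (Localization.AtPrime Q) := by
  classical
  obtain ⟨Q', hQ'⟩ : ∃ Q' : Ideal R, Q' = Q.comap (Ideal.Quotient.mk (Ideal.span (s : Set R))) := ⟨_, rfl⟩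
  have hp : Q'.IsPrime := hQ' ▸ Ideal.IsPrime.comap _
  have hreg : IsRegularRing R := Groth.Agent.Ega4late.H544.Dim.isRegularRing_of_isRegularLocalRing R
  have hreg' : IsRegularLocalRing (Localization.AtPrime Q') := IsRegularRing.isRegularLocalRing_localization Q'
  have hloc : IsLocalRing (R ⧸ Ideal.span (s : Set R)) :=
    IsLocalRing.of_surjective' (Ideal.Quotient.mk _) Ideal.Quotient.mk_surjective
  have hht := height_comap (Ideal.Quotient.mk (Ideal.span (s : Set R))) Ideal.Quotient.mk_surjective hcat c hc Q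
  rw [← hQ'] at hht
  obtain ⟨d, hd⟩ := ENat.ne_top_iff_exists.1 (Ideal.height_ne_top_of_isPrime (I := Q'))
  have hmap : (Ideal.span (s : Set R)).map (algebraMap R (Localization.AtPrime Q')) =
      Ideal.span ((s.image (algebraMap R (Localization.AtPrime Q')) : Finset _) : Set (Localization.AtPrime Q')) := by
    rw [Ideal.map_span, Finset.coe_image]
  refine purityHolds_quot (Localization.AtPrime Q') d ?_ (s.image (algebraMap R (Localization.AtPrime Q')))
    (Localization.AtPrime Q) (Localization.localRingHom Q' Q (Ideal.Quotient.mk _) hQ')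
    (localRingHom_surjective _ Ideal.Quotient.mk_surjective Q Q' hQ') ?_ ?_ ?_
  · rw [IsLocalization.AtPrime.ringKrullDim_eq_height Q' (Localization.AtPrime Q'), ← hd]
    rfl
  · rw [ker_localRingHom _ Ideal.Quotient.mk_surjective Q Q' hQ', Ideal.mk_ker, hmap]
  · rw [IsLocalization.AtPrime.ringKrullDim_eq_height Q (Localization.AtPrime Q)]
    exact WithBot.coe_le_coe.2 hQ
  · intro hle
    rw [← hmap]
    subst hQ'
    refine hci Q ?_
    rw [← hht, ← hd]
    have := Finset.card_image_le (s := s) (f := algebraMap R (Localization.AtPrime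
      (Q.comap (Ideal.Quotient.mk (Ideal.span (s : Set R))))))
    exact_mod_cast hle.trans (by omega)

end K64.CIPur
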