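import Groth.Agent.RefFun.K64.RootDesc
import Groth.Agent.Lefpen.H718.RootCover

/-!
# Elements which are `l`-th powers up to units in codimension one: propagation by purity

`A` a normal Noetherian domain in which `l` is invertible such that purity holds for the local rings `A_P`,
`height P ≥ 2`. An element of `A` which in codimension one is a unit times an `l`-th power of the fraction field is so at
every prime.
-/

set_option autoImplicit false
universe u

open IsLocalRing

namespace K64.RootProp

open K64.RootDesc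

variable {A : Type u} [CommRing A] [IsDomain A]

omit [IsDomain A] in
theorem locPow_mono {l : ℕ} {f : A} {p q : Ideal A} (h : p ≤ q) (hq : LocPow l f q) : LocPow l f p := by
  obtain ⟨v, a, b, hv, hb, e⟩ := hq
  exact ⟨v, a, b, fun h' => hv (h h'), hb, e⟩

/-- `LocPow` gives a pair. -/
theorem exists_pair {B : Type u} [CommRing B] [IsDomain B] {l : ℕ} (hl : 0 < l) {f v a b : B} (hf : f ≠ 0) (hb : b ≠ 0)
    (h : f * b ^ l = v * a ^ l) : ∃ h, Groth.Agent.Lefpen.H718.RootAlg.Pair l f v h := by
  have ha : a ≠ 0 := by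
    rintro rfl
    rw [zero_pow hl.ne', mul_zero] at h
    exact mul_ne_zero hf (pow_ne_zero l hb) h
  have ha' : algebraMap B (FractionRing B) a ≠ 0 := by
    rwa [Ne, IsFractionRing.to_map_eq_zero_iff]
  have hb' : algebraMap B (FractionRing B) b ≠ 0 := by
    rwa [Ne, IsFractionRing.to_map_eq_zero_iff]
  refine ⟨algebraMap B (FractionRing B) a / algebraMap B (FractionRing B) b, div_ne_zero ha' hb', ?_⟩
  rw [div_pow, mul_div_assoc', div_eq_iff (pow_ne_zero l hb'), ← map_pow, ← map_mul, ← h, map_mul, map_pow]

variable [IsNoetherianRing A] [IsIntegrallyClosed A]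

theorem locPow_of_purity {l : ℕ} (hl : 0 < l) (hlA : IsUnit (l : A)) {f : A} (hf : f ≠ 0) (P : Ideal A) [P.IsPrime]
    (hP2 : 2 ≤ P.height) (hpur : FEt.PurityHolds (Localization.AtPrime P))
    (hloc : ∀ q : Ideal A, q.IsPrime → q < P → LocPow l f q) : LocPow l f P := by
  let R := Localization.AtPrime P
  have hinj : Function.Injective (algebraMap A R) := IsLocalization.injective R P.primeCompl_le_nonZeroDivisors
  have : IsDomain R := IsLocalization.isDomain_localization P.primeCompl_le_nonZeroDivisors
  have : IsNoetherianRing R := IsLocalization.isNoetherianRing P.primeCompl R inferInstance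
  have : IsIntegrallyClosed R := isIntegrallyClosed_of_isLocalization R P.primeCompl P.primeCompl_le_nonZeroDivisors
  have hdim : (2 : WithBot ℕ∞) ≤ ringKrullDim R := by
    rw [IsLocalization.AtPrime.ringKrullDim_eq_height P R]
    exact WithBot.coe_le_coe.2 hP2
  have hlR : IsUnit (l : R) := by simpa using hlA.map (algebraMap A R)
  have hfR : algebraMap A R f ≠ 0 := fun h => hf (hinj (by rw [h, map_zero]))
  have key : ∀ q : Ideal R, q.IsPrime → q ≠ maximalIdeal R → LocPow l (algebraMap A R f) q := by
    intro q hq hqm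
    have hq' : (q.comap (algebraMap A R)).IsPrime := Ideal.IsPrime.comap _
    have hle : q.comap (algebraMap A R) ≤ P := by
      intro x hx
      by_contra hxP
      exact hq.ne_top (Ideal.eq_top_of_isUnit_mem _ hx (IsLocalization.map_units R (⟨x, hxP⟩ : P.primeCompl)))
    have hlt : q.comap (algebraMap A R) < P := by
      refine lt_of_le_of_ne hle fun he => hqm ?_
      have h4 : (q.comap (algebraMap A R)).map (algebraMap A R) = q :=
        IsLocalization.map_under P.primeCompl R q
      rw [he, Localization.AtPrime.map_eq_maximalIdeal] at h4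
      exact h4.symm
    obtain ⟨v, a, b, hv, hb, e⟩ := hloc _ hq' hlt
    refine ⟨algebraMap A R v, algebraMap A R a, algebraMap A R b, hv, fun h => hb (hinj (by rw [h, map_zero])), ?_⟩
    rw [← map_pow, ← map_mul, e, map_mul, map_pow]
  obtain ⟨C, _, _, hC1, hC2, hC3, z, hz⟩ := Groth.Agent.Lefpen.H718.RootCover.exists_etale R hdim hpur hl hlR
    (algebraMap A R f) (fun q hq hqm => by
      obtain ⟨v, a, b, hv, hb, e⟩ := key q hq hqm
      exact ⟨v, hv, exists_pair hl hfR hb e⟩)
  have hm2 : (2 : ℕ∞) ≤ (maximalIdeal R).height := by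
    have h1 := IsLocalRing.maximalIdeal_height_eq_ringKrullDim (R := R)
    rw [← h1] at hdim
    exact WithBot.coe_le_coe.1 hdim
  obtain ⟨u, x, hu, hx⟩ := exists_unit_mul_pow (R := R) (C := C) hl hfR hz (fun q hq hq1 => key q hq (by
    rintro rfl
    rw [hq1] at hm2
    exact absurd hm2 (by decide)))
  obtain ⟨⟨a, s⟩, hs⟩ := IsLocalization.surj P.primeCompl x
  obtain ⟨w, hw⟩ := hu.exists_left_inv
  obtain ⟨⟨v, t⟩, ht⟩ := IsLocalization.surj P.primeCompl w
  simp only at hs ht
  have hvP : v ∉ P := by
    intro hv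
    have h1 : algebraMap A R v ∈ maximalIdeal R := by
      rw [← Localization.AtPrime.map_eq_maximalIdeal]
      exact Ideal.mem_map_of_mem _ hv
    rw [← ht, IsLocalRing.mem_maximalIdeal, mem_nonunits_iff] at h1
    exact h1 ((IsUnit.of_mul_eq_one _ hw).mul (IsLocalization.map_units R t))
  have htP : (t : A) ∉ P := t.2
  have hsP : (s : A) ∉ P := s.2
  obtain ⟨m, rfl⟩ := Nat.exists_eq_add_of_le' hl
  refine ⟨v * t ^ m, a, s * t, ?_, ?_, hinj ?_⟩
  · exact fun h => ((inferInstance : P.IsPrime).mem_or_mem h).elim hvP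
      (fun h => htP ((inferInstance : P.IsPrime).mem_of_pow_mem m h))
  · exact mul_ne_zero (fun h => hsP (h ▸ P.zero_mem)) (fun h => htP (h ▸ P.zero_mem))
  · simp only [map_mul, map_pow, ← hs, ← ht]
    have e1 : x ^ (m + 1) * w = algebraMap A R f := by
      rw [hx]
      linear_combination (algebraMap A R f) * hw
    rw [← e1]
    ring

/-- Propagation from codimension one to all primes. -/
theorem locPow_all {l : ℕ} (hl : 0 < l) (hlA : IsUnit (l : A)) {f : A} (hf : f ≠ 0)
    (hpur : ∀ (P : Ideal A) [P.IsPrime], 2 ≤ P.height → FEt.PurityHolds (Localization.AtPrime P))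
    (hloc : ∀ q : Ideal A, q.IsPrime → q.height = 1 → LocPow l f q) (P : Ideal A) (hP : P.IsPrime) :
    LocPow l f P := by
  obtain ⟨n, hn⟩ : ∃ n : ℕ, P.height = n := by
    obtain ⟨n, hn⟩ := ENat.ne_top_iff_exists.1 (Ideal.height_ne_top_of_isPrime (I := P))
    exact ⟨n, hn.symm⟩
  induction n using Nat.strong_induction_on generalizing P with
  | _ n ih =>
    rcases Nat.lt_or_ge n 2 with h2 | h2
    · interval_cases n
      · have h0 : P = ⊥ := Ideal.height_eq_zero_iff_eq_bot.1 (by simpa using hn)
        subst h0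
        exact ⟨f, 1, 1, hf, one_ne_zero, by simp⟩
      · exact hloc P hP (by simpa using hn)
    · refine locPow_of_purity hl hlA hf P (by rw [hn]; exact_mod_cast h2) (hpur P (by rw [hn]; exact_mod_cast h2)) ?_
      intro q hq hlt
      have h3 := Ideal.height_strict_mono_of_isPrime_of_isPrime hlt
      obtain ⟨m, hm⟩ := ENat.ne_top_iff_exists.1 (Ideal.height_ne_top_of_isPrime (I := q))
      rw [hn, ← hm] at h3
      exact ih m (by exact_mod_cast h3) q hq hm.symm

end K64.RootProp
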