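import Groth.Agent.RefFun.K64.RefTors
import Groth.Agent.RefFun.K64.RootProp
import Groth.Prelude.Def_Ref1Cl

/-!
# Torsion of the group of rank one reflexive modules over a local ring pure in codimension two
-/

set_option autoImplicit false
set_option backward.isDefEq.respectTransparency.types false
universe u

open CategoryTheory CategoryTheory.Limits AlgebraicGeometry TopologicalSpace Opposite

namespace K64.ClTors

open RefHull Groth.Agent.CycB K475.GenStalk K64.RootDesc RefPow

/-- Powers in the group of rank one reflexive modules are reflexive powers. -/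
theorem cls_pow {X : Scheme.{u}} [IsIntegral X] [IsLocallyNoetherian X] [RefFun.Law X] {F : X.Modules}
    (hF : IsRef1 F) : ∀ n : ℕ, (RefFun.cls F hF) ^ n = RefFun.cls (refPow F n) (K476.Ref1.isRef1_refPow hF n)
  | 0 => by
    rw [pow_zero]
    exact ((RefFun.cls_eq_one_iff _).2 ⟨Iso.refl _⟩).symm
  | 1 => by rw [pow_one]; rfl
  | n + 2 => by
    rw [pow_succ, cls_pow hF (n + 1)]
    apply Subtype.ext
    rw [RefFun.cls_mul_cls_val]
    rfl

section alg

variable {A : Type u} [CommRing A] [IsDomain A] [IsNoetherianRing A] [IsIntegrallyClosed A] [IsLocalRing A]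
  {K : Type u} [Field K] [Algebra A K] [IsFractionRing A K]

/-- The algebra: an element of the fraction field which in codimension one is a unit times an `l`-th power is globally so. -/
theorem exists_root {l : ℕ} (hl : 0 < l) (hlA : IsUnit (l : A))
    (hpur : ∀ (P : Ideal A) [P.IsPrime], 2 ≤ P.height → FEt.PurityHolds (Localization.AtPrime P))
    {f : K} (hf : f ≠ 0)
    (hloc : ∀ q : Ideal A, q.IsPrime → q.height = 1 → ∃ (a : K) (u v : A), a ≠ 0 ∧ u ∉ q ∧ v ∉ q ∧
      algebraMap A K u = a ^ l * f * algebraMap A K v) :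
    ∃ (g : K) (w : A), g ≠ 0 ∧ IsUnit w ∧ f = algebraMap A K w * g ^ l := by
  have hinj := IsFractionRing.injective A K
  obtain ⟨m, rfl⟩ := Nat.exists_eq_add_of_le' hl
  obtain ⟨c, d, hd, hcd⟩ := IsFractionRing.div_surjective (A := A) f
  have hd0 : d ≠ 0 := nonZeroDivisors.ne_zero hd
  have hdK : algebraMap A K d ≠ 0 := fun h => hd0 (hinj (by rw [h, map_zero]))
  have hf' : algebraMap A K (c * d ^ m) = (algebraMap A K d) ^ (m + 1) * f := by
    rw [← hcd, map_mul, map_pow]
    field_simp
    ring
  have hf0 : c * d ^ m ≠ 0 := by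
    intro h
    rw [h, map_zero] at hf'
    exact mul_ne_zero (pow_ne_zero _ hdK) hf hf'.symm
  have key := K64.RootProp.locPow_all hl hlA hf0 hpur (by
    intro q hq hq1
    obtain ⟨a, u, v, ha, hu, hv, h⟩ := hloc q hq hq1
    obtain ⟨a1, a2, ha2, rfl⟩ := IsFractionRing.div_surjective (A := A) a
    have ha20 : a2 ≠ 0 := nonZeroDivisors.ne_zero ha2
    have ha2K : algebraMap A K a2 ≠ 0 := fun h => ha20 (hinj (by rw [h, map_zero]))
    have ha10 : a1 ≠ 0 := by
      rintro rfl
      rw [map_zero, zero_div] at ha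
      exact ha rfl
    -- `u (a2 d)^l = a1^l f' v`
    refine ⟨u * v ^ m, a2 * d, v * a1, ?_, ?_, hinj ?_⟩
    · exact fun h => (hq.mem_or_mem h).elim hu (fun h => hv (hq.mem_of_pow_mem m h))
    · exact mul_ne_zero (fun h => hv (h ▸ q.zero_mem)) ha10
    · rw [map_mul, hf']
      simp only [map_mul, map_pow, h, div_pow, mul_pow]
      field_simp
      try ring) (IsLocalRing.maximalIdeal A) inferInstance
  obtain ⟨w, a, b, hw, hb, h⟩ := key
  have hbK : algebraMap A K b ≠ 0 := fun h => hb (hinj (by rw [h, map_zero]))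
  have ha : a ≠ 0 := by
    rintro rfl
    rw [zero_pow (Nat.succ_ne_zero m), mul_zero] at h
    exact mul_ne_zero hf0 (pow_ne_zero _ hb) h
  have haK : algebraMap A K a ≠ 0 := fun h => ha (hinj (by rw [h, map_zero]))
  refine ⟨algebraMap A K a / (algebraMap A K b * algebraMap A K d), w, div_ne_zero haK (mul_ne_zero hbK hdK),
    by simpa using hw, ?_⟩
  have h1 := congrArg (algebraMap A K) h
  rw [map_mul, hf'] at h1
  simp only [map_mul, map_pow] at h1
  rw [div_pow, mul_div_assoc', eq_div_iff (pow_ne_zero _ (mul_ne_zero hbK hdK)), ← h1]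
  ring

end alg

theorem ord_pow {X : Scheme.{u}} [IsIntegral X] [IsLocallyNoetherian X] (x : X) {f : X.functionField} (hf : f ≠ 0)
    (n : ℕ) : Scheme.ord (f ^ n) x = n * Scheme.ord f x := by
  induction n with
  | zero => simpa using Groth.Agent.Ega4dB.CDivUFD.ord_one x
  | succ n ih =>
    rw [pow_succ, Scheme.ord_mul (pow_ne_zero n hf) hf, ih]
    push_cast
    ring

section spec

variable (R : CommRingCat.{u}) [IsDomain R]

/-- Units of the stalks of `Spec R` as fractions in the function field. -/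
theorem exists_frac (x : Spec R) (u : (Spec R).presheaf.stalk x) (hu : IsUnit u) :
    ∃ u₁ u₂ : R, u₁ ∉ x.asIdeal ∧ u₂ ∉ x.asIdeal ∧
      algebraMap R (Spec R).functionField u₁ =
        algebraMap ((Spec R).presheaf.stalk x) (Spec R).functionField u *
          algebraMap R (Spec R).functionField u₂ := by
  let k : Algebra ↑R ↑((Spec R).presheaf.stalk x) := StructureSheaf.stalkAlgebra (↑R) x
  have hp : x.asIdeal.IsPrime := PrimeSpectrum.isPrime x
  have hl : IsLocalization.AtPrime (↑((Spec R).presheaf.stalk x)) x.asIdeal :=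
    StructureSheaf.IsLocalization.to_stalk R x
  have ht : ∀ r : R, algebraMap ((Spec R).presheaf.stalk x) (Spec R).functionField
      (algebraMap R ((Spec R).presheaf.stalk x) r) = algebraMap R (Spec R).functionField r := by
    intro r
    exact congr($(StructureSheaf.toStalk_stalkSpecializes (R := R) ((genericPoint_spec (Spec R)).specializes
      (Set.mem_univ x))) r)
  obtain ⟨⟨u₁, u₂⟩, h⟩ := IsLocalization.surj x.asIdeal.primeCompl u
  simp only at h
  refine ⟨u₁, u₂, ?_, u₂.2, ?_⟩
  · have h1 : IsUnit (algebraMap R ((Spec R).presheaf.stalk x) u₁) := by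
      rw [← h]
      exact hu.mul (IsLocalization.map_units _ u₂)
    exact (IsLocalization.AtPrime.isUnit_to_map_iff _ x.asIdeal u₁).1 h1
  · rw [← ht, ← ht, ← map_mul, h]

theorem height_of_coheight (q : PrimeSpectrum R) (h : q.asIdeal.height = 1) :
    Order.coheight (α := Spec R) q = 1 := by
  rw [← h]
  exact (idealHeight_eq_coheight R q).symm

theorem mem_range_algebraMap (x : Spec R) (w : R) : algebraMap R (Spec R).functionField w ∈
    Set.range (algebraMap ((Spec R).presheaf.stalk x) (Spec R).functionField) :=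
  ⟨StructureSheaf.toStalk R x w, congr($(StructureSheaf.toStalk_stalkSpecializes (R := R)
    ((genericPoint_spec (Spec R)).specializes (Set.mem_univ x))) w)⟩

theorem isNormalScheme_Spec [IsIntegrallyClosed R] : Pi1.IsNormalScheme (Spec R) := by
  intro x
  let k : Algebra ↑R ↑((Spec R).presheaf.stalk x) := StructureSheaf.stalkAlgebra (↑R) x
  have hp : x.asIdeal.IsPrime := PrimeSpectrum.isPrime x
  have hl : IsLocalization.AtPrime (↑((Spec R).presheaf.stalk x)) x.asIdeal :=
    StructureSheaf.IsLocalization.to_stalk R x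
  exact ⟨IsLocalization.isDomain_of_le_nonZeroDivisors _ x.asIdeal.primeCompl_le_nonZeroDivisors,
    isIntegrallyClosed_of_isLocalization _ x.asIdeal.primeCompl x.asIdeal.primeCompl_le_nonZeroDivisors⟩

/-- Elements of `R^*` have order zero. -/
theorem ord_unit [IsNoetherianRing R] (w : R) (hw : IsUnit w) (x : Spec R) :
    Scheme.ord (algebraMap R (Spec R).functionField w) x = 0 := by
  obtain ⟨w', hw'⟩ := hw.exists_right_inv
  have h1 : algebraMap R (Spec R).functionField w * algebraMap R (Spec R).functionField w' = 1 := by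
    rw [← map_mul, hw', map_one]
  refine Groth.Agent.Ega4dB.CDivNormal.ord_eq_zero_of_unit x _ (left_ne_zero_of_mul_eq_one h1)
    (mem_range_algebraMap R x w) ?_
  rw [inv_eq_of_mul_eq_one_right h1]
  exact mem_range_algebraMap R x w'

end spec

/-- Torsion of order `l` among rank one reflexive modules on the spectrum of a normal local ring with purity in
codimension at least two. -/
theorem ref1_iso (R : CommRingCat.{u}) [IsDomain R] [IsLocalRing R] [IsNoetherianRing R] [IsIntegrallyClosed R]
    (hpur : ∀ (P : Ideal R) [P.IsPrime], 2 ≤ P.height → FEt.PurityHolds (Localization.AtPrime P))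
    {l : ℕ} (hl : 0 < l) (hlA : IsUnit (l : R)) {F : (Spec R).Modules} (hF : IsRef1 F)
    (e : Nonempty (refPow F l ≅ Coh.structureModule (Spec R))) :
    Nonempty (F ≅ Coh.structureModule (Spec R)) := by
  obtain ⟨e⟩ := e
  have hX : Pi1.IsNormalScheme (Spec R) := isNormalScheme_Spec R
  obtain ⟨v, hv⟩ := K476.Ref1.exists_isGen_eta hF.2.2
  have hv0 := K475.Rank1.IsGen.ne_zero hv
  obtain ⟨f, hf0, hf⟩ := K64.RefTors.exists_data hX hF l e hv0
  have hfrac : IsFractionRing R (Spec R).functionField := functionField_isFractionRing_of_affine R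
  obtain ⟨g, w, hg, hw, hfg⟩ := exists_root (A := R) (K := (Spec R).functionField) hl hlA hpur hf0 (by
    intro q hq hq1
    let x : Spec R := ⟨q, hq⟩
    have hx : Order.coheight x = 1 := height_of_coheight R ⟨q, hq⟩ hq1
    obtain ⟨a, u, hu, hu', ha0, -⟩ := hf x hx
    obtain ⟨u₁, u₂, h1, h2, h3⟩ := exists_frac R x u hu
    exact ⟨a, u₁, u₂, ha0, h1, h2, by rw [← hu']; exact h3⟩)
  refine K64.RefTors.iso_of_ord_eq hX hF hv0 hg fun x hx => ?_
  obtain ⟨a, u, hu, hu', ha0, ha⟩ := hf x hx
  have hw0 : algebraMap R (Spec R).functionField w ≠ 0 :=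
    (hw.map (algebraMap R (Spec R).functionField)).ne_zero
  obtain ⟨u', hu1⟩ := hu.exists_right_inv
  have h1 : algebraMap ((Spec R).presheaf.stalk x) (Spec R).functionField u *
      algebraMap ((Spec R).presheaf.stalk x) (Spec R).functionField u' = 1 := by
    rw [← map_mul, hu1, map_one]
  have h2 : Scheme.ord (algebraMap ((Spec R).presheaf.stalk x) (Spec R).functionField u) x = 0 := by
    refine Groth.Agent.Ega4dB.CDivNormal.ord_eq_zero_of_unit x _ (left_ne_zero_of_mul_eq_one h1) ⟨u, rfl⟩ ?_
    rw [inv_eq_of_mul_eq_one_right h1]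
    exact ⟨u', rfl⟩
  rw [hu', hfg, Scheme.ord_mul (pow_ne_zero _ ha0) (mul_ne_zero hw0 (pow_ne_zero _ hg)),
    Scheme.ord_mul hw0 (pow_ne_zero _ hg), ord_pow x ha0, ord_pow x hg, ord_unit R w hw x, ha] at h2
  have h3 : (l : ℤ) * (Scheme.ord g x - K475.OrdEta.sord F x v) = 0 := by linarith
  rcases mul_eq_zero.1 h3 with h4 | h4
  · exact absurd h4 (by exact_mod_cast hl.ne')
  · omega

/-- The group of rank one reflexive modules has no `l`-torsion. -/
theorem eq_one (R : CommRingCat.{u}) [IsDomain R] [IsLocalRing R] [IsNoetherianRing R] [IsIntegrallyClosed R]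
    (hpur : ∀ (P : Ideal R) [P.IsPrime], 2 ≤ P.height → FEt.PurityHolds (Localization.AtPrime P))
    [RefFun.Law (Spec R)] {l : ℕ} (hl : 0 < l) (hlA : IsUnit (l : R)) (c : RefFun.Ref1Set (Spec R)) (hc : c ^ l = 1) :
    c = 1 := by
  obtain ⟨F, hF, rfl⟩ := RefFun.exists_eq_cls c
  rw [cls_pow hF, RefFun.cls_eq_one_iff] at hc
  rw [RefFun.cls_eq_one_iff]
  exact ref1_iso R hpur hl hlA hF hc

end K64.ClTors
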