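import Groth.Agent.SDiv.K475.Ref1Iso
import Groth.Agent.SDiv.K476.RefPow1

/-!
# Torsion classes of rank one reflexive modules: the rational function

On an integral locally Noetherian normal scheme, a rank one reflexive `F` with `F^[s] ≅ O` gives a rational function `f`
which at every point of codimension one is a unit times an `s`-th power; `F ≅ O` as soon as `f` is globally the product of
a function of order zero everywhere by an `s`-th power.
-/

set_option autoImplicit false
set_option backward.isDefEq.respectTransparency false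
universe u

open CategoryTheory CategoryTheory.Limits AlgebraicGeometry TopologicalSpace Opposite

namespace K64.RefTors

open RefHull Groth.Agent.CycB Groth.Agent.CycB.ModStalk K475.GenStalk K475.Rank1 K475.Codim1Ring
  K475.OrdEta K475.Ref1Ord K476.TensStalk K476.Ref1 K476.RefPow1 RefPow

variable {X : Scheme.{u}} [IsIntegral X] [IsLocallyNoetherian X] {F : X.Modules}

/-- The rational function attached to a trivialization of `F^[s]`. -/
theorem exists_data (hX : Pi1.IsNormalScheme X) (hF : IsRef1 F) (s : ℕ)
    (e : refPow F s ≅ Coh.structureModule X) {v : F.presheaf.stalk (η X)} (hv : v ≠ 0) :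
    ∃ f : X.functionField, f ≠ 0 ∧ ∀ x : X, Order.coheight x = 1 →
      ∃ (a : X.functionField) (u : X.presheaf.stalk x), IsUnit u ∧
        algebraMap (X.presheaf.stalk x) X.functionField u = a ^ s * f ∧ a ≠ 0 ∧
        Scheme.ord a x = - sord F x v := by
  have hF' := R1.of_isRef1 hF
  have hv1 := hF'.isGen_of_ne_zero hv
  have hg := isGen_map (η X) _ (K476.HomSh4.bijective_stalkMapₗ_of_isIso e.hom _) (isGen_powGerm hF hv1 s)
  obtain ⟨f, hf⟩ := (isGen_unitGerm (η X)).2 (stalkMapₗ e.hom (η X) (powGerm v s))
  simp only at hf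
  have hf0 : f ≠ 0 := by
    rintro rfl
    rw [zero_smul] at hf
    exact IsGen.ne_zero hg hf.symm
  refine ⟨f, hf0, fun x hx => ?_⟩
  obtain ⟨t, ht⟩ := hF'.exists_isGen hX hx
  obtain ⟨a, ha⟩ := hv1.2 (F.presheaf.stalkSpecializes (spec x) t)
  simp only at ha
  have ha0 : a ≠ 0 := by
    rintro rfl
    rw [zero_smul] at ha
    exact IsGen.ne_zero (hF'.isGen_spec ht) ha.symm
  have hg' := isGen_map x _ (K476.HomSh4.bijective_stalkMapₗ_of_isIso e.hom x) (isGen_powGerm hF ht s)
  obtain ⟨u, hu⟩ := (isGen_unitGerm x).2 (stalkMapₗ e.hom x (powGerm t s))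
  simp only at hu
  obtain ⟨w, hw⟩ := hg'.2 (unitGerm x)
  simp only at hw
  refine ⟨a, u, ?_, ?_, ha0, ?_⟩
  · refine IsUnit.of_mul_eq_one w ((isGen_unitGerm x).1 ?_)
    simp only
    rw [one_smul, mul_comm, mul_smul, hu, hw]
  · apply (isGen_unitGerm (η X)).1
    simp only
    have h1 : (Coh.structureModule X).presheaf.stalkSpecializes (spec x) (u • unitGerm x) =
        algebraMap (X.presheaf.stalk x) X.functionField u • unitGerm (η X) := by
      rw [stalkSpecializes_smul, stalkSpecializes_unitGerm]
      rfl
    rw [← h1, hu, ← stalkMapₗ_specializes, stalkSpecializes_powGerm, ← ha, powGerm_smul, map_smul, ← hf, smul_smul]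
  · have h1 := hF'.sord_smul hX hx hv ha0
    have h2 : sord F x (F.presheaf.stalkSpecializes (spec x) t) = 0 := by
      have h3 := hF'.sord_smul_gen hx ht 1 one_ne_zero
      rw [one_smul] at h3
      rw [h3]
      exact Groth.Agent.Ega4dB.CDivUFD.ord_one x
    rw [ha, h2] at h1
    omega

/-- `F ≅ O` if some element of the generic stalk has the orders of a rational function. -/
theorem iso_of_ord_eq (hX : Pi1.IsNormalScheme X) (hF : IsRef1 F) {v : F.presheaf.stalk (η X)} (hv : v ≠ 0)
    {g : X.functionField} (hg : g ≠ 0) (h : ∀ x : X, Order.coheight x = 1 → Scheme.ord g x = sord F x v) :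
    Nonempty (F ≅ Coh.structureModule X) := by
  have hF' := R1.of_isRef1 hF
  have hO := R1.of_isRef1 (isRef1_structureModule (X := X))
  have hu : unitGerm (η X) ≠ 0 := IsGen.ne_zero (isGen_unitGerm (η X))
  have hgu : (g • unitGerm (η X) : (Coh.structureModule X).presheaf.stalk (η X)) ≠ 0 := hO.smul_ne_zero hu hg
  obtain ⟨e, -⟩ := K475.Ref1Iso.exists_iso_of_sord_eq hX hF (isRef1_structureModule (X := X)) hv hgu (by
    intro x hx
    rw [hO.sord_smul hX hx hu hg, h x hx]
    have h2 : sord (Coh.structureModule X) x (unitGerm (η X)) = 0 := by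
      have h3 := hO.sord_smul_gen hx (isGen_unitGerm x) 1 one_ne_zero
      rw [one_smul, stalkSpecializes_unitGerm] at h3
      rw [h3]
      exact Groth.Agent.Ega4dB.CDivUFD.ord_one x
    rw [h2, add_zero])
  exact ⟨e⟩

end K64.RefTors
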