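import Mathlib.RingTheory.Smooth.IntegralClosure
import Mathlib.RingTheory.IntegralClosure.IntegrallyClosed
import Mathlib.RingTheory.Etale.Basic
import Mathlib.RingTheory.LocalRing.Module
import Mathlib.RingTheory.Flat.FaithfullyFlat.Basic
import Mathlib.RingTheory.Ideal.GoingUp
import Groth.Agent.Etalg.NormalDvr

/-!
# Roots in finite étale algebras over a normal local domain

`R` a normal local domain, `C` a nonzero finite étale `R`-algebra in which `f ∈ R` has an `l`-th root. If `f` is locally
on the punctured spectrum a unit times an `l`-th power of the fraction field, then it is so at the closed point.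
-/

set_option autoImplicit false
universe u

open scoped TensorProduct

namespace K64.RootDesc

/-- `f` is at `q` a unit times an `l`-th power of the fraction field. -/
def LocPow {R : Type*} [CommRing R] (l : ℕ) (f : R) (q : Ideal R) : Prop :=
  ∃ v a b : R, v ∉ q ∧ b ≠ 0 ∧ f * b ^ l = v * a ^ l

section normal

variable {R : Type u} [CommRing R] [IsDomain R] [IsIntegrallyClosed R]
variable {C : Type u} [CommRing C] [Algebra R C] [Algebra.Etale R C]

omit [IsDomain R] in
theorem exists_of_isIntegral {z : C ⊗[R] FractionRing R} (hz : IsIntegral C z) : ∃ c : C, c ⊗ₜ[R] (1 : FractionRing R) = z := by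
  obtain ⟨t, ht⟩ := (TensorProduct.toIntegralClosure_bijective_of_smooth (R := R) (S := C) (B := FractionRing R)).2
    ⟨z, hz⟩
  have h1 : ((TensorProduct.toIntegralClosure R C (FractionRing R) t : integralClosure C (C ⊗[R] FractionRing R)) :
    C ⊗[R] FractionRing R) = z := congrArg Subtype.val ht
  rw [← h1]
  clear h1 ht hz
  induction t using TensorProduct.induction_on with
  | zero => exact ⟨0, by simp⟩
  | tmul c b =>
    obtain ⟨b, hb⟩ := b
    obtain ⟨r, hr⟩ := IsIntegrallyClosed.isIntegral_iff.1 hb
    subst hr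
    refine ⟨r • c, ?_⟩
    rw [TensorProduct.smul_tmul, Algebra.smul_def, mul_one]
    rfl
  | add x y hx hy =>
    obtain ⟨c, hc⟩ := hx
    obtain ⟨d, hd⟩ := hy
    exact ⟨c + d, by rw [TensorProduct.add_tmul, hc, hd, map_add]; rfl⟩

omit [IsDomain R] [IsIntegrallyClosed R] in
theorem inj_tmul_one {c d : C} (h : c ⊗ₜ[R] (1 : FractionRing R) = d ⊗ₜ[R] (1 : FractionRing R)) : c = d :=
  (Algebra.TensorProduct.includeLeft_injective (R := R) (S := R) (A := C) (B := FractionRing R)
    (IsFractionRing.injective R (FractionRing R))) h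

/-- `x ^ l = a ^ l v` implies `a ∣ x`. -/
theorem exists_of_pow {l : ℕ} (hl : 0 < l) {a : R} (ha : a ≠ 0) {x v : C}
    (h : x ^ l = (algebraMap R C a) ^ l * v) : ∃ y, x = algebraMap R C a * y := by
  have ha' : algebraMap R (FractionRing R) a ≠ 0 := by
    rwa [Ne, IsFractionRing.to_map_eq_zero_iff]
  have h1 : IsIntegral C (x ⊗ₜ[R] (algebraMap R (FractionRing R) a)⁻¹) := by
    refine IsIntegral.of_pow hl ?_
    rw [Algebra.TensorProduct.tmul_pow, h, ← map_pow, ← Algebra.smul_def, TensorProduct.smul_tmul, Algebra.smul_def,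
      map_pow, inv_pow, mul_inv_cancel₀ (pow_ne_zero _ ha')]
    exact isIntegral_algebraMap (R := C) (x := v)
  obtain ⟨y, hy⟩ := exists_of_isIntegral h1
  refine ⟨y, inj_tmul_one (R := R) ?_⟩
  rw [← Algebra.smul_def, ← TensorProduct.smul_tmul', hy, TensorProduct.smul_tmul', TensorProduct.smul_tmul,
    Algebra.smul_def, mul_inv_cancel₀ ha']

end normal

section desc

variable {R : Type u} [CommRing R] [IsDomain R] [IsIntegrallyClosed R] [IsNoetherianRing R]
variable {C : Type u} [CommRing C] [Algebra R C] [Algebra.Etale R C]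

/-- Coordinates of `z`: `f ∣ z_i ^ l`. -/
theorem dvd_coord {ι : Type*} (e : Module.Basis ι R C) {l : ℕ} (hl : 0 < l) {f : R} (hf : f ≠ 0) {z : C}
    (hz : z ^ l = algebraMap R C f) (hloc : ∀ q : Ideal R, q.IsPrime → q.height = 1 → LocPow l f q) (i : ι) :
    f ∣ (e.repr z i) ^ l := by
  rw [← Ideal.mem_span_singleton]
  refine Groth.Agent.Etalg.NormalDvr.mem_span_of_forall_height_one R hf fun q hq hq1 => ?_
  obtain ⟨v, a, b, hv, hb, h⟩ := hloc q hq hq1
  refine ⟨v, hv, Ideal.mem_span_singleton.2 ?_⟩
  have ha : a ≠ 0 := by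
    rintro rfl
    rw [zero_pow hl.ne', mul_zero] at h
    exact mul_ne_zero hf (pow_ne_zero l hb) h
  have h1 : (algebraMap R C b * z) ^ l = (algebraMap R C a) ^ l * algebraMap R C v := by
    rw [mul_pow, hz, ← map_pow, ← map_mul, mul_comm, h, map_mul, map_pow, mul_comm]
  obtain ⟨y, hy⟩ := exists_of_pow hl ha h1
  have h2 : b * e.repr z i = a * e.repr y i := by
    have h3 := congrArg (fun w => e.repr w i) hy
    simp only [← Algebra.smul_def, map_smul, Finsupp.smul_apply, smul_eq_mul] at h3
    exact h3
  refine ⟨(e.repr y i) ^ l, ?_⟩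
  have h4 : b ^ l * (v * (e.repr z i) ^ l) = b ^ l * (f * (e.repr y i) ^ l) := by
    have h5 : (b * e.repr z i) ^ l = (a * e.repr y i) ^ l := by rw [h2]
    rw [mul_pow, mul_pow] at h5
    linear_combination v * h5 - (e.repr y i) ^ l * h
  exact mul_left_cancel₀ (pow_ne_zero l hb) h4

/-- If `f` has an `l`-th root in a nonzero finite étale algebra over the local ring `R` and is an `l`-th power up to units
in codimension one, then `f` is a unit times an `l`-th power of an element of `R`. -/
theorem exists_unit_mul_pow [IsLocalRing R] [Module.Finite R C] [Nontrivial C] {l : ℕ} (hl : 0 < l) {f : R}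
    (hf : f ≠ 0) {z : C} (hz : z ^ l = algebraMap R C f)
    (hloc : ∀ q : Ideal R, q.IsPrime → q.height = 1 → LocPow l f q) :
    ∃ (u : R) (x : R), IsUnit u ∧ x ^ l = f * u := by
  have hfree : Module.Free R C := Module.free_of_flat_of_isLocalRing
  let e := Module.Free.chooseBasis R C
  have hinj : Function.Injective (algebraMap R C) := FaithfulSMul.algebraMap_injective R C
  choose r hr using fun i => dvd_coord e hl hf hz hloc i
  by_contra hcon
  have hrm : ∀ i, r i ∈ IsLocalRing.maximalIdeal R := by
    intro i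
    rw [IsLocalRing.mem_maximalIdeal, mem_nonunits_iff]
    exact fun hi => hcon ⟨r i, e.repr z i, hi, hr i⟩
  have hzreg : ∀ w w' : C, algebraMap R C f * w = algebraMap R C f * w' → w = w' := by
    intro w w' h
    simp only [← Algebra.smul_def] at h
    exact smul_right_injective C hf h
  -- `z_i = z c_i`
  have hc : ∀ i, ∃ c : C, algebraMap R C (e.repr z i) = z * c ∧ c ^ l = algebraMap R C (r i) := by
    intro i
    obtain ⟨m, rfl⟩ := Nat.exists_eq_add_of_le' hl
    have h1 : (algebraMap R C (e.repr z i) * z ^ m) ^ (m + 1) =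
        (algebraMap R C f) ^ (m + 1) * algebraMap R C (r i) := by
      rw [mul_pow, ← map_pow, hr i, map_mul, ← pow_mul, mul_comm m, pow_mul, hz]
      ring
    obtain ⟨c, hc⟩ := exists_of_pow (Nat.succ_pos m) hf h1
    have h2 : algebraMap R C (e.repr z i) = z * c := by
      apply hzreg
      linear_combination z * hc - (algebraMap R C (e.repr z i)) * hz
    refine ⟨c, h2, ?_⟩
    apply hzreg
    rw [← hz, ← mul_pow, ← h2, hz, ← map_pow, hr i, map_mul]
  choose c hc1 hc2 using hc
  have h3 : ∑ i, c i * e i = 1 := by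
    have h4 : z * ∑ i, c i * e i = z * 1 := by
      conv_rhs => rw [mul_one, ← e.sum_repr z]
      rw [Finset.mul_sum]
      refine Finset.sum_congr rfl fun i _ => ?_
      rw [Algebra.smul_def, hc1, mul_assoc]
    obtain ⟨m, rfl⟩ := Nat.exists_eq_add_of_le' hl
    apply hzreg
    have h5 := congrArg (fun w => z ^ m * w) h4
    simp only [← mul_assoc, ← pow_succ, hz] at h5
    exact h5
  obtain ⟨n, hn⟩ := Ideal.exists_maximal C
  have hcm : ∀ i, c i ∈ n := by
    intro i
    refine hn.isPrime.mem_of_pow_mem l ?_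
    rw [hc2]
    have h6 : (n.comap (algebraMap R C)) = IsLocalRing.maximalIdeal R :=
      IsLocalRing.eq_maximalIdeal (Ideal.isMaximal_comap_of_isIntegral_of_isMaximal n)
    have h7 : r i ∈ n.comap (algebraMap R C) := by rw [h6]; exact hrm i
    exact h7
  apply hn.ne_top
  rw [Ideal.eq_top_iff_one, ← h3]
  exact Ideal.sum_mem _ fun i _ => n.mul_mem_right _ (hcm i)

end desc

end K64.RootDesc
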